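import Cfsg.Agent.Nodes.WittInst
import Cfsg.Agent.H356.AQ.Quot

/-!
# The frame of `Ω⁺_{2m}(F)`, `F` finite of characteristic two (S4884, own characteristic; helper151)

`Q` a hyperbolic form with Witt frame `W`, `E Q` the group generated by the Siegel elements (in characteristic two
`E Q = PΩ⁺(Q)`).

* `TE`, `XE` : the torus and the root groups of `E Q`; `rgdE` : the root group datum;
* `adjE` : the coordinates of the simple root groups (helper148's `Adj`), `T → (Fˣ)^m` is surjective in characteristic two;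
* `rigidE`, `commE`, `GG_E`;
* `antiE` : the anti-automorphism `g ↦ J g⁻¹ J⁻¹`, `J` exchanging `e_i` and `f_i`.
-/

set_option autoImplicit false
set_option linter.unusedSectionVars false
set_option linter.unusedFintypeInType false

namespace Cfsg.Agent.H151.OwnO

open Cfsg QuadraticMap Cfsg.Agent.Nodes
open Cfsg.Agent.ChevalleyStructure.CoxeterGeom Cfsg.Agent.Tits.Roots Cfsg.Agent.Tits.Core
open Cfsg.Agent.Nodes.Comb Cfsg.Agent.Nodes.Reps Cfsg.Agent.Nodes.BNOf Cfsg.Agent.Nodes.RGDLib Cfsg.Agent.Nodes.Bruhat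
open Cfsg.Agent.Nodes.WittRoot (Mono Amb XG)
open Cfsg.Agent.Nodes.WittRGD (Tor mem_Tor b_ne_zero Amb.eq_one_of_fix)
open Cfsg.Agent.Nodes.WittAll Cfsg.Agent.Nodes.WittInst
open Cfsg.Agent.Nodes.TypeD
open Cfsg.Agent.TitsThree Cfsg.Agent.TitsThree.Siegel Cfsg.Agent.TitsThree.SiegelGen
  Cfsg.Agent.TitsThree.WittFrame Cfsg.Agent.TitsThree.WBridge Cfsg.Agent.TitsThree.WittWeyl
  Cfsg.Agent.TitsThree.KSideO
open Cfsg.Agent.LieClassical Cfsg.Agent.LieClassical.OrthCore Cfsg.Agent.LieClassical.OrthForms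
open Cfsg.Agent.H148.GG

section General

variable {ι : Type} [Fintype ι] [DecidableEq ι] {F : Type*} [Field F] {Q : QuadraticForm F (ι → F)} {n : ℕ}
  (W : WFrame (PO Q) (n + 2))

/-- the torus of `E Q` -/
def TE : Subgroup ↥(E Q) := (Tor (toFrame W) (E Q)).subgroupOf (E Q)

/-- the root groups of `E Q` -/
def XE (x : Fin (n + 2) → ℤ) : Subgroup ↥(E Q) := (WittRGDD.rg (toFrame W) x).subgroupOf (E Q)

omit [Fintype ι] [DecidableEq ι] in
theorem eta (x : Fin (n + 2) × Bool) : (toFrame W).η x = 1 := by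
  unfold Frame.η
  split_ifs <;> rfl

/-- the Weyl elements of `E Q` -/
noncomputable def nE (hA : Amb (toFrame W) (E Q)) (i : Fin (n + 2)) : ↥(E Q) :=
  ⟨WittRGDD.nn (toFrame W) i, WittRGDD.nn_mem hA i⟩

omit [DecidableEq ι] in
/-- **the root group datum of `E Q`** -/
theorem rgdE [Finite F] (hA : Amb (toFrame W) (E Q)) (h0 : ∀ p : (toFrame W).Adm, p = 1) {p : ℕ}
    [Fact p.Prime] [CharP F p] {G : Type*} [Group G] (cs : CoxeterSystem (M n) G) :
    RGD cs (isCartan n) p (TE W) (nE W hA) (XE W) :=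
  rgd_restrict (rgdD hA h0 cs) (E Q) (fun x _ => rgD_le W hA x) (fun i => WittRGDD.nn_mem hA i)

/-! ### coordinates of the simple root groups -/

/-- the coordinate of a simple root element -/
def cx (i : Fin (n + 2)) (g : (ι → F) ≃ₗ[F] (ι → F)) : F :=
  polar Q (g ((toFrame W).b (neg (nx i)))) ((toFrame W).b (i, false))

omit [Fintype ι] [DecidableEq ι] in
theorem cx_X (i : Fin (n + 2)) (t : F) : cx W i ((toFrame W).X (i, true) (nx i) t) = t := by
  unfold cx
  rw [X_apply_neg (toFrame W) (ok_nx i)]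
  have h1 : (HO Q).h ((toFrame W).b (neg (nx i))) ((toFrame W).b (i, false)) = 0 :=
    (toFrame W).hb_of_ne (Ne.symm (ok_nx i))
  have h2 : (HO Q).h ((toFrame W).b (i, true)) ((toFrame W).b (i, false)) = 1 := by
    have := (toFrame W).hb_self_neg (i, true)
    rw [eta] at this
    exact this
  show (HO Q).h _ _ = t
  rw [HForm.add_left, HForm.smul_left, h1, h2, zero_add, mul_one]

omit [Fintype ι] [DecidableEq ι] in
theorem exists_coord {i : Fin (n + 2)} {u : ↥(E Q)} (hu : u ∈ XE W (sr i)) :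
    ∃ t, (u : (ι → F) ≃ₗ[F] (ι → F)) = (toFrame W).X (i, true) (nx i) t := by
  have h1 : (u : (ι → F) ≃ₗ[F] (ι → F)) ∈ WittRGDD.rg (toFrame W) (sr i) := hu
  rwa [WittRGDD.rg_sr] at h1

omit [Fintype ι] [DecidableEq ι] in
theorem eq_X {i : Fin (n + 2)} {u : ↥(E Q)} (hu : u ∈ XE W (sr i)) :
    (u : (ι → F) ≃ₗ[F] (ι → F)) = (toFrame W).X (i, true) (nx i) (cx W i u) := by
  obtain ⟨t, ht⟩ := exists_coord W hu
  rw [ht, cx_X]

/-- the coordinate homomorphism -/
def xE (i : Fin (n + 2)) : ↥(XE W (sr i)) →* Multiplicative F where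
  toFun u := Multiplicative.ofAdd (cx W i (u : ↥(E Q)))
  map_one' := by
    have h1 := cx_X W i 0
    rw [Frame.X_zero] at h1
    show Multiplicative.ofAdd (cx W i 1) = 1
    rw [h1]
    rfl
  map_mul' u v := by
    have h1 := eq_X W u.2
    have h2 := eq_X W v.2
    show Multiplicative.ofAdd (cx W i ((u : ↥(E Q)).1 * (v : ↥(E Q)).1)) = _
    rw [h1, h2, ← Frame.X_add, cx_X, cx_X, cx_X]
    rfl

/-! ### the characters of the torus -/

/-- the eigenvalue on `b x` -/
def ev (x : Fin (n + 2) × Bool) (g : (ι → F) ≃ₗ[F] (ι → F)) : F :=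
  polar Q (g ((toFrame W).b x)) ((toFrame W).b (neg x))

omit [Fintype ι] [DecidableEq ι] in
theorem ev_of {x : Fin (n + 2) × Bool} {g : (ι → F) ≃ₗ[F] (ι → F)} {l : F}
    (hg : g ((toFrame W).b x) = l • (toFrame W).b x) : ev W x g = l := by
  unfold ev
  rw [hg]
  show (HO Q).h _ _ = l
  rw [HForm.smul_left, (toFrame W).hb_self_neg, eta, mul_one]

omit [Fintype ι] [DecidableEq ι] in
theorem apply_b {t : ↥(E Q)} (ht : t ∈ TE W) (x : Fin (n + 2) × Bool) :
    t.1 ((toFrame W).b x) = ev W x t.1 • (toFrame W).b x := by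
  obtain ⟨l, -, e⟩ := (Subgroup.mem_subgroupOf.1 ht : _ ∈ Tor (toFrame W) (E Q)).2 x
  have e' : t.1 ((toFrame W).b x) = l • (toFrame W).b x := e
  rw [ev_of W e', e']

/-- the eigenvalue as a homomorphism -/
def evM (x : Fin (n + 2) × Bool) : ↥(TE W) →* F where
  toFun t := ev W x (t : ↥(E Q)).1
  map_one' := ev_of W (by rw [one_smul]; rfl)
  map_mul' s t := by
    refine ev_of W ?_
    show (s : ↥(E Q)).1 ((t : ↥(E Q)).1 ((toFrame W).b x)) = _
    rw [apply_b W t.2, map_smul, apply_b W s.2, smul_smul, mul_comm]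

/-- the same with values in the units -/
def evU (x : Fin (n + 2) × Bool) : ↥(TE W) →* Fˣ := (evM W x).toHomUnits

omit [Fintype ι] [DecidableEq ι] in
theorem coe_evU (x : Fin (n + 2) × Bool) (t : ↥(TE W)) : (evU W x t : F) = ev W x (t : ↥(E Q)).1 := rfl

omit [Fintype ι] [DecidableEq ι] in
theorem ev_mul_ev_neg (x : Fin (n + 2) × Bool) (t : ↥(TE W)) : evU W x t * evU W (neg x) t = 1 := by
  apply Units.ext
  rw [Units.val_mul, coe_evU, coe_evU, Units.val_one]
  have h1 : (HO Q).h ((t : ↥(E Q)).1 ((toFrame W).b x)) ((t : ↥(E Q)).1 ((toFrame W).b (neg x))) =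
      (HO Q).h ((toFrame W).b x) ((toFrame W).b (neg x)) := polar_map (E_le_O (t : ↥(E Q)).2) _ _
  rw [apply_b W t.2, apply_b W t.2, HForm.smul_left, HForm.smul_right, (toFrame W).hb_self_neg, eta, mul_one] at h1
  rw [← h1]
  rfl

omit [Fintype ι] [DecidableEq ι] in
theorem evU_neg (x : Fin (n + 2) × Bool) (t : ↥(TE W)) : evU W (neg x) t = (evU W x t)⁻¹ :=
  eq_inv_of_mul_eq_one_right (ev_mul_ev_neg W x t)

omit [Fintype ι] [DecidableEq ι] in
theorem conj_simple (i : Fin (n + 2)) {t : ↥(E Q)} (ht : t ∈ TE W) (s : F) :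
    t.1 * (toFrame W).X (i, true) (nx i) s * t.1⁻¹ =
      (toFrame W).X (i, true) (nx i) (ev W (i, true) t.1 * ev W (nx i) t.1 * s) := by
  have h1 : (HO Q).IsIso t.1 := fun v w => polar_map (E_le_O t.2) v w
  have h2 := conj_X (toFrame W) h1 (ok_nx i) (ok_nx i) (apply_b W ht (i, true)) (apply_b W ht (nx i)) s
  rw [h2, eta]
  congr 1
  show _ * (RingEquiv.refl F) _ * (1 : F)⁻¹ * 1 * s = _
  rw [RingEquiv.refl_apply, inv_one, mul_one, mul_one]

/-! ### diagonal elements -/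

omit [Fintype ι] [DecidableEq ι] in
theorem V0_eq_zero (h0 : ∀ p : (toFrame W).Adm, p = 1) {w : ι → F} (hw : w ∈ (toFrame W).V0) : w = 0 :=
  congrArg Frame.Adm.w (h0 ⟨w, -Q w, hw, rfl⟩)

omit [DecidableEq ι] in
/-- elements of `E Q` which agree on the frame are equal -/
theorem ext_b (hA : Amb (toFrame W) (E Q)) (h0 : ∀ p : (toFrame W).Adm, p = 1) {g g' : ↥(E Q)}
    (e : ∀ x, g.1 ((toFrame W).b x) = g'.1 ((toFrame W).b x)) : g = g' := by
  have h1 : g'⁻¹ * g = 1 := by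
    apply Subtype.ext
    refine Amb.eq_one_of_fix hA (fun x => ?_) (fun w hw => ?_)
    · show g'.1⁻¹ (g.1 _) = _
      rw [e]
      exact g'.1.symm_apply_apply _
    · rw [V0_eq_zero W h0 hw, map_zero]
  exact (inv_mul_eq_one.1 h1).symm

omit [DecidableEq ι] in
theorem commE (hA : Amb (toFrame W) (E Q)) (h0 : ∀ p : (toFrame W).Adm, p = 1) :
    ∀ s ∈ TE W, ∀ t ∈ TE W, Commute s t := by
  intro s hs t ht
  refine ext_b W hA h0 fun x => ?_
  show s.1 (t.1 _) = t.1 (s.1 _)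
  rw [apply_b W ht, apply_b W hs, map_smul, map_smul, apply_b W ht, apply_b W hs, smul_smul, smul_smul, mul_comm]

/-- `nX x y r * (nX x y 1)⁻¹` -/
noncomputable def hX (hA : Amb (toFrame W) (E Q)) (x y : Fin (n + 2) × Bool) (r : F) : ↥(E Q) :=
  ⟨nX (toFrame W) x y r * (nX (toFrame W) x y 1)⁻¹, mul_mem (WittRGDD.nX_mem hA _ _ _) (inv_mem (WittRGDD.nX_mem hA _ _ _))⟩

omit [Fintype ι] [DecidableEq ι] in
theorem hX_x (hA : Amb (toFrame W) (E Q)) {x y : Fin (n + 2) × Bool} (h : x.1 ≠ y.1) {r : F} (hr : r ≠ 0) :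
    (hX W hA x y r).1 ((toFrame W).b x) = r • (toFrame W).b x := by
  have h1 := nX_apply_neg (toFrame W) h (one_ne_zero (α := F))
  rw [one_smul] at h1
  have h2 : (nX (toFrame W) x y 1)⁻¹ ((toFrame W).b x) = (toFrame W).b (neg y) := by
    rw [← h1]
    exact LinearEquiv.symm_apply_apply _ _
  show nX (toFrame W) x y r ((nX (toFrame W) x y 1)⁻¹ ((toFrame W).b x)) = _
  rw [h2, nX_apply_neg (toFrame W) h hr]

omit [Fintype ι] [DecidableEq ι] in
theorem hX_neg (hA : Amb (toFrame W) (E Q)) {x y : Fin (n + 2) × Bool} (h : x.1 ≠ y.1) {r : F} (hr : r ≠ 0) :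
    (hX W hA x y r).1 ((toFrame W).b (neg y)) = r⁻¹ • (toFrame W).b (neg y) := by
  have h1 := nX_apply_self (toFrame W) h (one_ne_zero (α := F))
  rw [inv_one, one_smul] at h1
  have h2 : (nX (toFrame W) x y 1)⁻¹ ((toFrame W).b (neg y)) = -(toFrame W).b x := by
    have h3 : (toFrame W).b (neg y) = nX (toFrame W) x y 1 (-(toFrame W).b x) := by rw [map_neg, h1, _root_.neg_neg]
    conv_lhs => rw [h3]
    exact LinearEquiv.symm_apply_apply _ _
  show nX (toFrame W) x y r ((nX (toFrame W) x y 1)⁻¹ ((toFrame W).b (neg y))) = _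
  rw [h2, map_neg, nX_apply_self (toFrame W) h hr, _root_.neg_neg]

omit [Fintype ι] [DecidableEq ι] in
theorem hX_of_ne (hA : Amb (toFrame W) (E Q)) {x y z : Fin (n + 2) × Bool} (h : x.1 ≠ y.1) (h1 : z.1 ≠ x.1)
    (h2 : z.1 ≠ y.1) (r : F) : (hX W hA x y r).1 ((toFrame W).b z) = (toFrame W).b z := by
  have h3 := nX_apply_of_ne (toFrame W) h h1 h2 1
  have h4 : (nX (toFrame W) x y 1)⁻¹ ((toFrame W).b z) = (toFrame W).b z := by
    conv_lhs => rw [← h3]
    exact LinearEquiv.symm_apply_apply _ _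
  show nX (toFrame W) x y r ((nX (toFrame W) x y 1)⁻¹ ((toFrame W).b z)) = _
  rw [h4, nX_apply_of_ne (toFrame W) h h1 h2]

omit [Fintype ι] [DecidableEq ι] in
theorem cst (x y : Fin (n + 2) × Bool) (t : F) :
    (HO Q).ε⁻¹ * (toFrame W).η x * (toFrame W).η y * (HO Q).σ t = t := by
  rw [eta, eta]
  show (1 : F)⁻¹ * 1 * 1 * (RingEquiv.refl F) t = t
  rw [inv_one, mul_one, mul_one, one_mul, RingEquiv.refl_apply]

omit [Fintype ι] [DecidableEq ι] in
theorem hX_y (hA : Amb (toFrame W) (E Q)) {x y : Fin (n + 2) × Bool} (h : x.1 ≠ y.1) {r : F} (hr : r ≠ 0) :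
    (hX W hA x y r).1 ((toFrame W).b y) = r • (toFrame W).b y := by
  have h1 := nX_apply_neg' (toFrame W) h (one_ne_zero (α := F))
  rw [cst, one_smul] at h1
  have h2 : (nX (toFrame W) x y 1)⁻¹ ((toFrame W).b y) = -(toFrame W).b (neg x) := by
    have h3 : (toFrame W).b y = nX (toFrame W) x y 1 (-(toFrame W).b (neg x)) := by
      rw [map_neg, h1, _root_.neg_neg]
    conv_lhs => rw [h3]
    exact LinearEquiv.symm_apply_apply _ _
  show nX (toFrame W) x y r ((nX (toFrame W) x y 1)⁻¹ ((toFrame W).b y)) = _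
  rw [h2, map_neg, nX_apply_neg' (toFrame W) h hr, cst, _root_.neg_neg]

omit [Fintype ι] [DecidableEq ι] in
theorem hX_neg_x (hA : Amb (toFrame W) (E Q)) {x y : Fin (n + 2) × Bool} (h : x.1 ≠ y.1) {r : F} (hr : r ≠ 0) :
    (hX W hA x y r).1 ((toFrame W).b (neg x)) = r⁻¹ • (toFrame W).b (neg x) := by
  have h1 := nX_apply_self' (toFrame W) h (one_ne_zero (α := F))
  rw [cst, inv_one, one_smul] at h1
  have h2 : (nX (toFrame W) x y 1)⁻¹ ((toFrame W).b (neg x)) = (toFrame W).b y := by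
    rw [← h1]
    exact LinearEquiv.symm_apply_apply _ _
  show nX (toFrame W) x y r ((nX (toFrame W) x y 1)⁻¹ ((toFrame W).b (neg x))) = _
  rw [h2, nX_apply_self' (toFrame W) h hr, cst]

omit [Fintype ι] [DecidableEq ι] in
theorem hX_mem (hA : Amb (toFrame W) (E Q)) {x y : Fin (n + 2) × Bool} (h : x.1 ≠ y.1) {r : F} (hr : r ≠ 0) :
    hX W hA x y r ∈ TE W := by
  refine Subgroup.mem_subgroupOf.2 ⟨(hX W hA x y r).2, fun z => ?_⟩
  by_cases h1 : z.1 = x.1
  · rcases WittRGD.eq_or_ng h1 with rfl | rfl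
    · exact ⟨r, hr, hX_x W hA h hr⟩
    · exact ⟨r⁻¹, inv_ne_zero hr, hX_neg_x W hA h hr⟩
  by_cases h2 : z.1 = y.1
  · rcases WittRGD.eq_or_ng h2 with rfl | rfl
    · exact ⟨r, hr, hX_y W hA h hr⟩
    · exact ⟨r⁻¹, inv_ne_zero hr, hX_neg W hA h hr⟩
  refine ⟨1, one_ne_zero, ?_⟩
  rw [one_smul]
  exact hX_of_ne W hA h h1 h2 r

/-! ### the torus in characteristic two -/

omit [Fintype ι] [DecidableEq ι] in
theorem exists_single [Finite F] [CharP F 2] (hA : Amb (toFrame W) (E Q)) (k : Fin (n + 2)) (s : Fˣ) :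
    ∃ t : ↥(TE W), ∀ j, evU W (j, true) t = Pi.mulSingle (M := fun _ => Fˣ) k s j := by
  obtain ⟨j, hj⟩ := exists_ne k
  obtain ⟨r, hr⟩ := FiniteField.isSquare_of_char_two (ringChar.eq_iff.2 ‹CharP F 2›) (s : F)
  have hr0 : r ≠ 0 := by
    rintro rfl
    rw [mul_zero] at hr
    exact s.ne_zero hr
  have h1 : ((k, true) : Fin (n + 2) × Bool).1 ≠ ((j, false) : Fin (n + 2) × Bool).1 := Ne.symm hj
  have h2 : ((k, true) : Fin (n + 2) × Bool).1 ≠ ((j, true) : Fin (n + 2) × Bool).1 := Ne.symm hj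
  refine ⟨⟨hX W hA (k, true) (j, false) r * hX W hA (k, true) (j, true) r,
    mul_mem (hX_mem W hA h1 hr0) (hX_mem W hA h2 hr0)⟩, fun l => ?_⟩
  apply Units.ext
  rw [coe_evU]
  refine ev_of W ?_
  show (hX W hA (k, true) (j, false) r).1 ((hX W hA (k, true) (j, true) r).1 _) = _
  by_cases hk : l = k
  · subst hk
    rw [Pi.mulSingle_eq_same, hX_x W hA h2 hr0, map_smul, hX_x W hA h1 hr0, smul_smul, hr]
  rw [Pi.mulSingle_eq_of_ne hk, Units.val_one, one_smul]
  by_cases hl : l = j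
  · subst hl
    have h3 := hX_neg W hA h1 hr0
    have h4 : neg ((l, false) : Fin (n + 2) × Bool) = (l, true) := rfl
    rw [h4] at h3
    rw [hX_y W hA h2 hr0, map_smul, h3, smul_smul, mul_inv_cancel₀ hr0, one_smul]
  · rw [hX_of_ne W hA (z := (l, true)) h2 hk hl, hX_of_ne W hA (z := (l, true)) h1 hk hl]

omit [Fintype ι] [DecidableEq ι] in
theorem exists_diag [Finite F] [CharP F 2] (hA : Amb (toFrame W) (E Q)) (d : Fin (n + 2) → Fˣ) :
    ∃ t : ↥(TE W), ∀ j, evU W (j, true) t = d j := by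
  let f : ↥(TE W) →* (Fin (n + 2) → Fˣ) := MonoidHom.pi fun j => evU W (j, true)
  have h1 : d ∈ f.range := by
    rw [← Finset.univ_prod_mulSingle d]
    refine Subgroup.prod_mem _ fun k _ => ?_
    obtain ⟨t, ht⟩ := exists_single W hA k (d k)
    exact ⟨t, funext ht⟩
  obtain ⟨t, ht⟩ := h1
  exact ⟨t, fun j => congrFun ht j⟩

/-- the characters of the torus given by the simple roots -/
def aE (i : Fin (n + 2)) : ↥(TE W) →* Fˣ := evU W (i, true) * evU W (nx i)

omit [Fintype ι] [DecidableEq ι] in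
theorem aE_apply (i : Fin (n + 2)) (t : ↥(TE W)) : aE W i t = evU W (i, true) t * evU W (nx i) t := rfl

omit [Fintype ι] [DecidableEq ι] in
theorem aE_up (i : Fin (n + 2)) (hi : (i : ℕ) + 1 < n + 2) (t : ↥(TE W)) :
    aE W i t = evU W (i, true) t * (evU W (⟨i + 1, hi⟩, true) t)⁻¹ := by
  rw [aE_apply, ← evU_neg]
  unfold nx
  rw [dif_pos hi]
  rfl

omit [Fintype ι] [DecidableEq ι] in
theorem aE_last (i : Fin (n + 2)) (hi : ¬ (i : ℕ) + 1 < n + 2) (t : ↥(TE W)) :
    aE W i t = evU W (i, true) t * evU W (pd n, true) t := by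
  rw [aE_apply]
  unfold nx
  rw [dif_neg hi]

omit [Fintype ι] [DecidableEq ι] in
/-- the torus acts on the simple root groups by all tuples of scalars -/
theorem surj_aE [Finite F] [CharP F 2] (hA : Amb (toFrame W) (E Q)) (c : Fin (n + 2) → Fˣ) :
    ∃ t : ↥(TE W), ∀ i, aE W i t = c i := by
  let c' : ℕ → Fˣ := fun j => if h : j < n + 2 then c ⟨j, h⟩ else 1
  have hc' : ∀ i : Fin (n + 2), c' i = c i := fun i => dif_pos i.2
  obtain ⟨q0, hq0⟩ := FiniteField.isSquare_of_char_two (ringChar.eq_iff.2 ‹CharP F 2›) ((c' (n + 1) * (c' n)⁻¹ : Fˣ) : F)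
  have hq00 : q0 ≠ 0 := by
    rintro rfl
    rw [mul_zero] at hq0
    exact (c' (n + 1) * (c' n)⁻¹).ne_zero hq0
  let q : Fˣ := Units.mk0 q0 hq00
  have hq : q * q = c' (n + 1) * (c' n)⁻¹ := Units.ext hq0.symm
  let d : ℕ → Fˣ := fun i => (∏ j ∈ Finset.Ico i (n + 1), c' j) * q
  have hd : ∀ i, i < n + 1 → d i = c' i * d (i + 1) := by
    intro i hi
    show (∏ j ∈ Finset.Ico i (n + 1), c' j) * q = c' i * ((∏ j ∈ Finset.Ico (i + 1) (n + 1), c' j) * q)
    rw [Finset.prod_eq_prod_Ico_succ_bot hi, mul_assoc]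
  have hd1 : d (n + 1) = q := by
    show (∏ j ∈ Finset.Ico (n + 1) (n + 1), c' j) * q = q
    rw [Finset.Ico_self, Finset.prod_empty, one_mul]
  obtain ⟨t, ht⟩ := exists_diag W hA fun i => d i
  refine ⟨t, fun i => ?_⟩
  by_cases hi : (i : ℕ) + 1 < n + 2
  · rw [aE_up W i hi, ht, ht, ← hc', hd i (by omega)]
    exact mul_inv_cancel_right _ _
  · have h1 : (i : ℕ) = n + 1 := by omega
    have h2 : ((pd n : Fin (n + 2)) : ℕ) = n := rfl
    rw [aE_last W i hi, ht, ht, ← hc', h1, h2, hd n (by omega), hd1, mul_left_comm, hq, mul_comm, inv_mul_cancel_right]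

omit [Fintype ι] [DecidableEq ι] in
/-- the act of the torus on the simple root groups -/
theorem act_eq (i : Fin (n + 2)) (t : ↥(TE W)) {u : ↥(E Q)} (hu : u ∈ XE W (sr i)) :
    ((t : ↥(E Q)) * u * (t : ↥(E Q))⁻¹).1 = (toFrame W).X (i, true) (nx i) ((aE W i t : F) * cx W i u.1) := by
  have h1 := eq_X W hu
  have h2 := conj_simple W i t.2 (cx W i u.1)
  rw [← h1] at h2
  exact h2

/-- **the coordinates of `Ω⁺` in characteristic two** -/
def adjE [Finite F] [CharP F 2] (hA : Amb (toFrame W) (E Q)) : H148.GG.Adj (TE W) (XE W) (fun _ => F) where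
  x := xE W
  a := aE W
  surjX i s := by
    refine ⟨⟨⟨(toFrame W).X (i, true) (nx i) (Multiplicative.toAdd s), X_mem W _ _ _⟩, ?_⟩, ?_⟩
    · show (toFrame W).X (i, true) (nx i) (Multiplicative.toAdd s) ∈ WittRGDD.rg (toFrame W) (sr i)
      rw [WittRGDD.rg_sr]
      exact ⟨_, rfl⟩
    · exact congrArg Multiplicative.ofAdd (cx_X W i _)
  act i t u hu := by
    have h1 := act_eq W i t u.2
    show cx W i ((t : ↥(E Q)) * (u : ↥(E Q)) * (t : ↥(E Q))⁻¹).1 = _
    rw [h1, cx_X]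
    rfl
  lin i ψ u hu := by
    have h1 : cx W i (u : ↥(E Q)).1 = 0 := hu
    have h2 := eq_X W u.2
    rw [h1, Frame.X_zero] at h2
    have h3 : u = 1 := Subtype.ext (Subtype.ext h2)
    rw [h3, map_one]
  surjT := surj_aE W hA
  ker i t ht u hu := by
    have h1 := act_eq W i t hu
    rw [ht, Units.val_one, one_mul, ← eq_X W hu] at h1
    exact mul_inv_eq_iff_eq_mul.1 (Subtype.ext h1)

omit [DecidableEq ι] in
/-- **rigidity** -/
theorem rigidE [Finite F] [CharP F 2] (hA : Amb (toFrame W) (E Q)) (h0 : ∀ p : (toFrame W).Adm, p = 1) (t : ↥(TE W))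
    (ht : ∀ i, aE W i t = 1) : t = 1 := by
  have h1 : ∀ (m : ℕ) (i : Fin (n + 2)), (i : ℕ) + m = n + 1 → evU W (i, true) t = evU W (Fin.last (n + 1), true) t := by
    intro m
    induction m with
    | zero =>
      intro i hi
      have : i = Fin.last (n + 1) := Fin.ext (by rw [Fin.val_last]; omega)
      rw [this]
    | succ m ih =>
      intro i hi
      have hi' : (i : ℕ) + 1 < n + 2 := by omega
      have h2 := ht i
      rw [aE_up W i hi', mul_inv_eq_one] at h2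
      rw [h2]
      exact ih _ (by show (i : ℕ) + 1 + m = n + 1; omega)
  have h2 := ht (Fin.last (n + 1))
  rw [aE_last W _ (by rw [Fin.val_last]; omega), h1 1 (pd n) (by show n + 1 = n + 1; rfl)] at h2
  have h3 : evU W (Fin.last (n + 1), true) t = 1 := by
    apply Units.ext
    have h4 : (evU W (Fin.last (n + 1), true) t : F) * (evU W (Fin.last (n + 1), true) t : F) = 1 := by
      rw [← Units.val_mul, h2, Units.val_one]
    have h5 : ((evU W (Fin.last (n + 1), true) t : F) - 1) ^ 2 = 0 := by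
      rw [sub_pow_char, pow_two, h4, one_pow, sub_self]
    rw [Units.val_one]
    exact sub_eq_zero.1 (pow_eq_zero_iff two_ne_zero |>.1 h5)
  have h4 : ∀ i, evU W (i, true) t = 1 := fun i => (h1 (n + 1 - i) i (by have := i.2; omega)).trans h3
  apply Subtype.ext
  refine ext_b W hA h0 fun x => ?_
  show (t : ↥(E Q)).1 ((toFrame W).b x) = (toFrame W).b x
  have h5 : evU W x t = 1 := by
    obtain ⟨k, s⟩ := x
    cases s
    · have h6 := evU_neg W (k, true) t
      rw [h4, inv_one] at h6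
      exact h6
    · exact h4 k
  rw [apply_b W t.2, ← coe_evU, h5, Units.val_one, one_smul]

omit [Fintype ι] [DecidableEq ι] in
/-- **generation** -/
theorem GG_E (h0 : ∀ p : (toFrame W).Adm, p = 1) {G : Type*} [Group G] (cs : CoxeterSystem (M n) G) :
    GG cs (isCartan n) (TE W) (XE W) = ⊤ := by
  have h1 := G1D_eq_top W (MonoidHom.id ↥(E Q)) Function.surjective_id h0 cs
  have h2 : XD W (MonoidHom.id ↥(E Q)) = XE W := by
    funext x
    exact Subgroup.map_id _
  rw [h2] at h1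
  exact top_le_iff.1 (h1 ▸ le_sup_right)

/-! ### the anti-automorphism -/

section Anti

variable {J : (ι → F) ≃ₗ[F] (ι → F)} (hJO : J ∈ O Q)

/-- `g ↦ J g⁻¹ J⁻¹` -/
def phi (g : ↥(E Q)) : ↥(E Q) := ⟨J * g.1⁻¹ * J⁻¹, conj_mem_E hJO (inv_mem g.2)⟩

omit [DecidableEq ι] in
theorem antiE (hA : Amb (toFrame W) (E Q)) (h0 : ∀ p : (toFrame W).Adm, p = 1)
    (hJ : ∀ x, J ((toFrame W).b x) = (toFrame W).b (neg x)) {G : Type*} [Group G] (cs : CoxeterSystem (M n) G) :
    H92.GG.Anti cs (isCartan n) (TE W) (XE W) (phi hJO) where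
  mul g g' := by
    apply Subtype.ext
    show J * (g.1 * g'.1)⁻¹ * J⁻¹ = J * g'.1⁻¹ * J⁻¹ * (J * g.1⁻¹ * J⁻¹)
    group
  invo g := by
    have h1 : J * J = 1 := by
      refine Amb.eq_one_of_fix hA (fun x => ?_) (fun w hw => ?_)
      · show J (J _) = _
        rw [hJ, hJ, WittFrame.neg_neg]
      · rw [V0_eq_zero W h0 hw, map_zero]
    apply Subtype.ext
    show J * (J * g.1⁻¹ * J⁻¹)⁻¹ * J⁻¹ = g.1
    have h2 : J * (J * g.1⁻¹ * J⁻¹)⁻¹ * J⁻¹ = (J * J) * g.1 * (J * J)⁻¹ := by group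
    rw [h2, h1]
    group
  root a ha x hx := by
    obtain ⟨u, v, huv, e⟩ := exists_of_isRoot cs ha
    have hx' : x.1 ∈ WittRGDD.rg (toFrame W) a := hx
    rw [WittRGDD.rg_eq (toFrame W) huv e] at hx'
    obtain ⟨s, hs⟩ := hx'
    show J * x.1⁻¹ * J⁻¹ ∈ WittRGDD.rg (toFrame W) (-a)
    have e' : ee (-a) = TypeC.wt (neg u) + TypeC.wt (neg v) := by
      have h1 := TypeC.wt_ng u
      have h2 := TypeC.wt_ng v
      rw [ee_neg, e]
      show _ = TypeC.wt (TypeC.ng u) + TypeC.wt (TypeC.ng v)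
      rw [h1, h2]
      abel
    have huv' : Ok (neg u) (neg v) := huv
    rw [WittRGDD.rg_eq (toFrame W) huv' e', hs, ← Frame.X_neg]
    have h1 : (HO Q).IsIso J := fun v w => polar_map hJO v w
    rw [conj_X (toFrame W) h1 huv huv' (l := 1) (m := 1) (by rw [hJ, one_smul]) (by rw [hJ, one_smul])]
    exact ⟨_, rfl⟩
  tor t ht := by
    refine ext_b W hA h0 fun x => ?_
    show J (t.1⁻¹ (J⁻¹ ((toFrame W).b x))) = t.1 ((toFrame W).b x)
    have h1 : J⁻¹ ((toFrame W).b x) = (toFrame W).b (neg x) := by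
      have h2 := hJ (neg x)
      rw [WittFrame.neg_neg] at h2
      rw [← h2]
      exact LinearEquiv.symm_apply_apply _ _
    have h3 := apply_b W (inv_mem ht) (neg x)
    have h4 : (evU W (neg x) ⟨t⁻¹, inv_mem ht⟩ : Fˣ) = evU W x ⟨t, ht⟩ := by
      have h5 : (⟨t⁻¹, inv_mem ht⟩ : ↥(TE W)) = (⟨t, ht⟩ : ↥(TE W))⁻¹ := rfl
      rw [h5, map_inv, evU_neg, inv_inv]
    have h6 : ev W (neg x) (t⁻¹).1 = ev W x t.1 := congrArg Units.val h4
    rw [h1]
    have h7 : t.1⁻¹ ((toFrame W).b (neg x)) = ev W x t.1 • (toFrame W).b (neg x) := by rw [← h6]; exact h3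
    rw [h7, map_smul, hJ, WittFrame.neg_neg, apply_b W ht]

end Anti

end General

/-! ### the plus form -/

section Plus

variable (m : ℕ) (F : Type*) [Field F]

/-- the exchange of `e_i` and `f_i` -/
def swp : (Fin m ⊕ Fin m → F) ≃ₗ[F] (Fin m ⊕ Fin m → F) := LinearEquiv.funCongrLeft F F (Equiv.sumComm (Fin m) (Fin m))

theorem swp_apply (v : Fin m ⊕ Fin m → F) (z : Fin m ⊕ Fin m) : swp m F v z = v z.swap := rfl

theorem swp_mem : swp m F ∈ O (plusForm m F) := by
  rw [mem_O]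
  intro v
  rw [coe_plusForm, quadFormPlus_apply, quadFormPlus_apply]
  refine Finset.sum_congr rfl fun i _ => ?_
  rw [swp_apply, swp_apply, Sum.swap_inl, Sum.swap_inr, mul_comm]

theorem swp_b (x : Fin m × Bool) : swp m F ((toFrame (wplus m F)).b x) = (toFrame (wplus m F)).b (neg x) := by
  obtain ⟨i, s⟩ := x
  funext z
  rw [swp_apply]
  cases s <;> cases z <;> simp [toFrame, wplus, neg, Pi.single_apply]

end Plus

end Cfsg.Agent.H151.OwnO
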